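import Cfsg.Agent.H695.XP.Row
import Cfsg.Agent.H614.XZ.Big
import Cfsg.Agent.H45.XL.One
import Cfsg.Agent.H794.XZ.X0

/-!
# S4791, S4927: the row `PSL_n(q)` (helper695)

`row_psl`, from helper45 (geometry, `e = 1`), helper614 (labels and families), helper719 (`e = 1`, `n < p`),
helper794 and helper577 (`e ≥ 2`).
-/

set_option autoImplicit false

namespace Cfsg.Agent.H695.XP

open Matrix Cfsg Subgroup
open Cfsg.Agent.H674.XZ Cfsg.Agent.H508.KB Cfsg.Agent.H508.XR Cfsg.Agent.H668.XZ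

universe u

/-- **the row `PSL_n(q)`** -/
theorem row_psl {p : ℕ} [hp : Fact p.Prime] {M : Ideal AlgInt} (h11 : 11 ≤ p) (hM : IsPModular p M) (r : ℕ) [hr : Fact r.Prime]
    (hrp : r ≠ p) (S : Type u) [Group S] [Finite S] [IsSimpleGroup S] (h : IsPSLChar r S) (hP : NC p S) : Row0 p M S := by
  refine row_of hrp h11 hM h hP (fun {F} _ _ {n} hpF hq hn iso => ⟨1 * p - 1, H614.XZ.count_big h11 one_pos, ?_⟩)
    (fun {F} _ _ {n} hpF he hn => H794.XZ.x0_gl_ge hM hpF he hn)
  refine H614.XZ.fam_of_FV_label h11 (e := 1) (w := n) (s := 0) one_pos (by omega) (by omega) iso fun β hβ c hc => ?_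
  exact H45.XL.FV_label_one hM hq (by omega) β hβ c hc

end Cfsg.Agent.H695.XP
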