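import Cfsg.Agent.H695.XP.Semi
import Cfsg.Agent.H199.PslAut

/-!
# S4791, `PSL_n(q)`: the field automorphisms and the graph automorphism act on an abelian `p`-subgroup as power maps
(helper695)
-/

set_option autoImplicit false

namespace Cfsg.Agent.H695.XP

open Matrix
open Cfsg.Agent.H199.PslAut
open Cfsg.Agent.ClassicalGeometry.AutPSL.Root
open Cfsg.Agent.ClassicalGeometry.AutPSL.Auto

universe u v

/-- automorphisms of finite fields are powers of the Frobenius automorphism -/
theorem exists_frob {F : Type u} [Field F] [Finite F] (r : ℕ) [hr : Fact r.Prime] [CharP F r] (σ : F ≃+* F) :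
    ∃ j : ℕ, ∀ x, σ x = x ^ r ^ j := by
  let _ : Algebra (ZMod r) F := ZMod.algebra F r
  have hfix : ∀ x : ZMod r, σ (algebraMap (ZMod r) F x) = algebraMap (ZMod r) F x := by
    intro x
    have h1 : (σ : F →+* F).comp (algebraMap (ZMod r) F) = algebraMap (ZMod r) F := Subsingleton.elim _ _
    exact RingHom.congr_fun h1 x
  let s : F ≃ₐ[ZMod r] F := AlgEquiv.ofRingEquiv (f := σ) hfix
  obtain ⟨j, hj⟩ := (FiniteField.bijective_frobeniusAlgEquivOfAlgebraic_pow (ZMod r) F).2 s
  refine ⟨j, fun x => ?_⟩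
  have h1 : σ x = s x := rfl
  have h3 : ∀ (k : ℕ) (x : F), (FiniteField.frobeniusAlgEquivOfAlgebraic (ZMod r) F ^ k) x = x ^ r ^ k := by
    intro k
    induction k with
    | zero => intro x; rw [pow_zero, pow_zero, pow_one]; rfl
    | succ k ih =>
      intro x
      rw [_root_.pow_succ, AlgEquiv.mul_apply, ih]
      have h4 : FiniteField.frobeniusAlgEquivOfAlgebraic (ZMod r) F x = x ^ Fintype.card (ZMod r) :=
        congrFun (FiniteField.coe_frobeniusAlgEquivOfAlgebraic (ZMod r) F) x
      rw [h4, ZMod.card, ← pow_mul, ← pow_succ']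
  rw [h1, ← hj]
  exact h3 _ x

variable {F : Type u} [Field F] {n : ℕ} {Q : Type v} [CommGroup Q] [Finite Q]

/-- the representation on `F ^ n` -/
noncomputable def rep (f : Q →* Matrix.SpecialLinearGroup (Fin n) F) : Representation F Q (Fin n → F) where
  toFun q := Matrix.toLin' ((f q : Matrix.SpecialLinearGroup (Fin n) F) : Matrix (Fin n) (Fin n) F)
  map_one' := by
    rw [map_one]
    change Matrix.toLin' (1 : Matrix (Fin n) (Fin n) F) = 1
    rw [Matrix.toLin'_one]
    rfl
  map_mul' a b := by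
    rw [map_mul]
    change Matrix.toLin' (((f a : Matrix.SpecialLinearGroup (Fin n) F) : Matrix (Fin n) (Fin n) F) *
      ((f b : Matrix.SpecialLinearGroup (Fin n) F) : Matrix (Fin n) (Fin n) F)) = _
    rw [Matrix.toLin'_mul]
    rfl

omit [Finite Q] in
theorem rep_apply (f : Q →* Matrix.SpecialLinearGroup (Fin n) F) (q : Q) (v : Fin n → F) :
    rep f q v = ((f q : Matrix.SpecialLinearGroup (Fin n) F) : Matrix (Fin n) (Fin n) F) *ᵥ v := by
  change Matrix.toLin' _ v = _
  rw [Matrix.toLin'_apply]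

/-- **field automorphisms** act as power maps up to `GL_n(F)` -/
theorem fld_pow [Finite F] {r : ℕ} [hr : Fact r.Prime] [CharP F r] (h : (Nat.card Q : F) ≠ 0)
    (f : Q →* Matrix.SpecialLinearGroup (Fin n) F) (σ : F ≃+* F) :
    ∃ (g : GL (Fin n) F) (j : ℕ), ∀ t, cj g (fld σ (f t)) = f (t ^ r ^ j) := by
  obtain ⟨j, hj⟩ := exists_frob r σ
  obtain ⟨s, hs1, hs2⟩ := exists_semi (r := r) h (rep f) j
  -- the coordinatewise action
  let τ : (Fin n → F) → (Fin n → F) := fun v i => σ.symm (v i)
  let L : (Fin n → F) ≃ₗ[F] (Fin n → F) :=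
    { toFun := fun v => s (τ v)
      invFun := fun v i => σ (s.symm v i)
      left_inv := by
        intro v
        funext i
        change σ (s.symm (s (τ v)) i) = v i
        rw [s.symm_apply_apply]
        change σ (σ.symm (v i)) = v i
        rw [σ.apply_symm_apply]
      right_inv := by
        intro v
        change s (τ (fun i => σ (s.symm v i))) = v
        have h1 : τ (fun i => σ (s.symm v i)) = s.symm v := by
          funext i
          change σ.symm (σ (s.symm v i)) = _
          rw [σ.symm_apply_apply]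
        rw [h1, s.apply_symm_apply]
      map_add' := by
        intro v w
        have h1 : τ (v + w) = τ v + τ w := by
          funext i
          change σ.symm (v i + w i) = _
          rw [map_add]
          rfl
        change s (τ (v + w)) = s (τ v) + s (τ w)
        rw [h1, map_add]
      map_smul' := by
        intro c v
        have h1 : τ (c • v) = σ.symm c • τ v := by
          funext i
          change σ.symm (c * v i) = _
          rw [map_mul]
          rfl
        change s (τ (c • v)) = c • s (τ v)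
        rw [h1, hs1, ← hj, σ.apply_symm_apply] }
  have hL : ∀ v, L v = s (τ v) := fun v => rfl
  let g : GL (Fin n) F := Matrix.GeneralLinearGroup.toLin.symm (LinearMap.GeneralLinearGroup.ofLinearEquiv L)
  have hg : ∀ v, (g : Matrix (Fin n) (Fin n) F) *ᵥ v = L v := by
    intro v
    have h1 : Matrix.GeneralLinearGroup.toLin g = LinearMap.GeneralLinearGroup.ofLinearEquiv L :=
      MulEquiv.apply_symm_apply _ _
    have h2 : (Matrix.GeneralLinearGroup.toLin g : (Fin n → F) →ₗ[F] (Fin n → F)) v = L v := by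
      rw [h1]
      rfl
    rw [← h2]
    rfl
  have hτ : ∀ (A : Matrix (Fin n) (Fin n) F) (v : Fin n → F), τ (A.map σ *ᵥ v) = A *ᵥ τ v := by
    intro A v
    funext i
    change σ.symm (∑ k, A.map σ i k * v k) = ∑ k, A i k * τ v k
    rw [map_sum]
    refine Finset.sum_congr rfl fun k _ => ?_
    rw [map_mul, Matrix.map_apply, σ.symm_apply_apply]
  refine ⟨g, j, fun t => ?_⟩
  apply Subtype.ext
  rw [coe_cj]
  have key : (g : Matrix (Fin n) (Fin n) F) * (fld σ (f t) : Matrix (Fin n) (Fin n) F) =
      (f (t ^ r ^ j) : Matrix (Fin n) (Fin n) F) * (g : Matrix (Fin n) (Fin n) F) := by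
    apply Matrix.toLin'.injective
    apply LinearMap.ext
    intro v
    rw [Matrix.toLin'_apply, Matrix.toLin'_apply, ← Matrix.mulVec_mulVec, ← Matrix.mulVec_mulVec, hg, hg, hL, hL,
      ← rep_apply, ← hs2, rep_apply]
    congr 1
    exact hτ _ _
  rw [key]
  rw [mul_assoc, ← Units.val_mul, mul_inv_cancel, Units.val_one, mul_one]

/-- **the graph automorphism** acts as the inversion up to `GL_n(F)` -/
theorem itr_inv (h : (Nat.card Q : F) ≠ 0) (f : Q →* Matrix.SpecialLinearGroup (Fin n) F) :
    ∃ g : GL (Fin n) F, ∀ t, cj g (itr (f t)) = f t⁻¹ := by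
  obtain ⟨B, hB1, hB2⟩ := exists_form h (rep f)
  let G : Matrix (Fin n) (Fin n) F := LinearMap.toMatrix₂' F B
  have hG : ∀ v w, B v w = v ⬝ᵥ (G *ᵥ w) := by
    intro v w
    have h1 : B = Matrix.toLinearMap₂' F G := (Matrix.toLinearMap₂'_toMatrix' B).symm
    conv_lhs => rw [h1]
    rw [Matrix.toLinearMap₂'_apply']
  have hcomm : ∀ t, (f t : Matrix (Fin n) (Fin n) F)ᵀ * G = G * (f t : Matrix (Fin n) (Fin n) F) := by
    intro t
    ext i k
    have h1 := hB2 t (Pi.single i 1) (Pi.single k 1)
    rw [hG, hG, rep_apply, rep_apply] at h1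
    have h2 : ((f t : Matrix (Fin n) (Fin n) F) *ᵥ Pi.single i 1) ⬝ᵥ (G *ᵥ Pi.single k 1) =
        ((f t : Matrix (Fin n) (Fin n) F)ᵀ * G) i k := by
      rw [Matrix.mulVec_single_one, Matrix.mulVec_single_one]
      rfl
    have h3 : (Pi.single i (1 : F) : Fin n → F) ⬝ᵥ (G *ᵥ ((f t : Matrix (Fin n) (Fin n) F) *ᵥ Pi.single k 1)) =
        (G * (f t : Matrix (Fin n) (Fin n) F)) i k := by
      rw [single_one_dotProduct, Matrix.mulVec_mulVec, Matrix.mulVec_single_one]
      rfl
    rw [h2, h3] at h1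
    exact h1
  have hdet : G.det ≠ 0 := by
    intro h0
    obtain ⟨v, hv0, hv⟩ := Matrix.exists_vecMul_eq_zero_iff.2 h0
    refine hv0 (hB1 v fun w => ?_)
    rw [hG, Matrix.dotProduct_mulVec, hv, zero_dotProduct]
  let g : GL (Fin n) F := Matrix.GeneralLinearGroup.mkOfDetNeZero G hdet
  have hgG : (g : Matrix (Fin n) (Fin n) F) = G := rfl
  refine ⟨g⁻¹, fun t => ?_⟩
  apply Subtype.ext
  rw [coe_cj, coe_itr, inv_inv, hgG, mul_assoc]
  have h1 := hcomm t⁻¹
  rw [map_inv] at h1 ⊢
  rw [h1, ← mul_assoc, ← hgG, ← Units.val_mul, inv_mul_cancel, Units.val_one, one_mul]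

end Cfsg.Agent.H695.XP
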