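import Cfsg.Agent.H845.KB.AbPsl
import Cfsg.Agent.H364.XR.Crit
import Cfsg.Agent.H668.XZ.Fam
import Cfsg.Agent.H719.XZ.OnePSL
import Cfsg.Agent.H577.XZ.Trans
import Cfsg.Agent.H501.RealGen
import Cfsg.Agent.Lib.PSL2Mult
import Cfsg.Agent.S0242

/-!
# S4791, S4927: the row `PSL_n(q)` (helper695)
-/

set_option autoImplicit false
set_option linter.unusedSectionVars false

namespace Cfsg.Agent.H695.XP

open Matrix Cfsg Subgroup
open Cfsg.Agent.ClassicalGeometry.AutPSL.Root
open Cfsg.Agent.H674.XZ Cfsg.Agent.H508.KB Cfsg.Agent.H508.XR Cfsg.Agent.H668.XZ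

universe u v w

/-- the natural representation of `SL_n(F)` -/
noncomputable def nat (n : ℕ) (F : Type u) [Field F] : Matrix.SpecialLinearGroup (Fin n) F →* Module.End F (Fin n → F) where
  toFun s := Matrix.toLin' (s : Matrix (Fin n) (Fin n) F)
  map_one' := by
    change Matrix.toLin' (1 : Matrix (Fin n) (Fin n) F) = 1
    rw [Matrix.toLin'_one]
    rfl
  map_mul' a b := by
    change Matrix.toLin' ((a : Matrix (Fin n) (Fin n) F) * (b : Matrix (Fin n) (Fin n) F)) = _
    rw [Matrix.toLin'_mul]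
    rfl

theorem nat_injective (n : ℕ) (F : Type u) [Field F] : Function.Injective (nat n F) := by
  intro a b h
  apply Subtype.ext
  exact Matrix.toLin'.injective h

/-- **noncyclic Sylow subgroups**: `2 e ≤ n` -/
theorem two_mul_le {p : ℕ} [hp : Fact p.Prime] (hp2 : p ≠ 2) {F : Type u} [Field F] [Fintype F] {n : ℕ} (hpF : (p : F) ≠ 0)
    (h : NC p (Matrix.ProjectiveSpecialLinearGroup (Fin n) F)) : 2 * orderOf ((Fintype.card F : ℕ) : ZMod p) ≤ n := by
  have hfin : Finite (Matrix.ProjectiveSpecialLinearGroup (Fin n) F) := Finite.of_surjective pr pr_surjective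
  obtain ⟨P⟩ : Nonempty (Sylow p (Matrix.ProjectiveSpecialLinearGroup (Fin n) F)) := inferInstance
  obtain ⟨Q, hQ, hQP⟩ := H845.KB.exists_lift_sylow pr pr_surjective P
  have hQP' : (P : Subgroup _) = Q.map pr := by
    have h1 : IsPGroup p (Q.map pr) := hQ.map pr
    have h2 : (P : Subgroup (Matrix.ProjectiveSpecialLinearGroup (Fin n) F)) ≤ Q.map pr := by
      intro x hx
      obtain ⟨t, ht, rfl⟩ := hQP x hx
      exact ⟨t, ht, rfl⟩
    exact (P.3 h1 h2).symm
  have hnc : ¬ IsCyclic Q := by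
    intro hc
    apply h P
    rw [hQP']
    exact isCyclic_of_surjective (pr.subgroupMap Q) (pr.subgroupMap_surjective Q)
  have hpF' : ¬ p ∣ Nat.card F := by
    intro hd
    obtain ⟨r, hr⟩ := CharP.exists F
    have hrp : r.Prime := CharP.char_is_prime F r
    have : Fact r.Prime := ⟨hrp⟩
    obtain ⟨k, -, hk⟩ := FiniteField.card F r
    rw [Nat.card_eq_fintype_card, hk] at hd
    have h1 := (Nat.prime_dvd_prime_iff_eq hp.out hrp).1 (hp.out.dvd_of_dvd_pow hd)
    apply hpF
    rw [h1]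
    exact CharP.cast_eq_zero F r
  have h1 := H501.RealGen.two_le_finrank (nat n F) (nat_injective n F) hp2 hpF' hQ hnc
  rwa [Module.finrank_fin_fun, Nat.card_eq_fintype_card] at h1

section two

local notation "S2" => Matrix.SpecialLinearGroup (Fin 2)
local notation "P2" => Matrix.ProjectiveSpecialLinearGroup (Fin 2)

variable {F : Type u} [Field F] [Finite F]

theorem card_sl2 : Nat.card (S2 F) = Nat.card F * (Nat.card F ^ 2 - 1) := by
  have := Fintype.ofFinite F
  have h := Cfsg.Agent.S0242.result (F := F) rfl 2 (by norm_num)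
  rw [Fin.prod_univ_two] at h
  simp only [Fin.val_zero, Fin.val_one, pow_zero, pow_one, ← Nat.card_eq_fintype_card] at h
  have hq : 1 < Nat.card F := Finite.one_lt_card
  have h2 : (Nat.card F - 1) * Nat.card (S2 F) = (Nat.card F - 1) * (Nat.card F * (Nat.card F ^ 2 - 1)) := by
    rw [h]
    have : Nat.card F ^ 2 - Nat.card F = (Nat.card F - 1) * Nat.card F := by
      rw [Nat.sub_mul, one_mul, sq]
    rw [this]; ring
  exact Nat.eq_of_mul_eq_mul_left (by omega) h2

/-- diagonal elements -/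
def dge (u : Fˣ) : S2 F := ⟨!![(u : F), 0; 0, ((u⁻¹ : Fˣ) : F)], by
    rw [Matrix.det_fin_two_of, mul_zero, sub_zero, ← Units.val_mul, mul_inv_cancel, Units.val_one]⟩

omit [Finite F] in
theorem coe_dge (u : Fˣ) : (dge u : Matrix (Fin 2) (Fin 2) F) = !![(u : F), 0; 0, ((u⁻¹ : Fˣ) : F)] := rfl

/-- the diagonal torus -/
def dgh : Fˣ →* S2 F where
  toFun u := dge u
  map_one' := by
    apply Subtype.ext
    rw [coe_dge]
    ext i j
    fin_cases i <;> fin_cases j <;> simp
  map_mul' u v := by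
    apply Subtype.ext
    rw [Matrix.SpecialLinearGroup.coe_mul, coe_dge, coe_dge, coe_dge]
    ext i j
    fin_cases i <;> fin_cases j <;> simp [Matrix.mul_apply, Fin.sum_univ_two, mul_comm]

omit [Finite F] in
theorem dgh_injective : Function.Injective (dgh : Fˣ →* S2 F) := by
  intro u v h
  have h1 := congrArg (fun g : S2 F => (g : Matrix (Fin 2) (Fin 2) F) 0 0) h
  exact Units.ext h1

/-- Sylow `p`-subgroups of `PSL_2(q)`, `p ∣ q - 1` -/
theorem isCyclic_sylow {p : ℕ} [hpf : Fact p.Prime] (hp2 : p ≠ 2) (hpq : ¬ p ∣ Nat.card F) (h1 : p ∣ Nat.card F - 1)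
    (P : Sylow p (P2 F)) : IsCyclic (P : Subgroup (P2 F)) := by
  have := Fintype.ofFinite F
  have hpp : p.Prime := hpf.out
  have hq : 1 < Nat.card F := Finite.one_lt_card
  let D : Subgroup (S2 F) := dgh.range
  have hDc : IsCyclic D := isCyclic_of_surjective dgh.rangeRestrict dgh.rangeRestrict_surjective
  have hDcard : Nat.card D = Nat.card F - 1 := by
    rw [← Nat.card_congr (MonoidHom.ofInjective (dgh_injective (F := F))).toEquiv, Nat.card_units]
  have hidx : D.index = Nat.card F * (Nat.card F + 1) := by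
    have h2 := D.card_mul_index
    rw [card_sl2, hDcard] at h2
    obtain ⟨k, hk⟩ : ∃ k, Nat.card F = k + 2 := ⟨Nat.card F - 2, by omega⟩
    rw [hk] at h2 ⊢
    have h3 : (k + 2) ^ 2 - 1 = (k + 1) * (k + 3) := by
      rw [Nat.sub_eq_iff_eq_add (by nlinarith)]; ring
    rw [h3] at h2
    have h4 : (k + 1) * D.index = (k + 1) * ((k + 2) * (k + 3)) := by
      have e : k + 2 - 1 = k + 1 := by omega
      rw [e] at h2
      rw [h2]; ring
    exact Nat.eq_of_mul_eq_mul_left (by omega) h4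
  have hTc : IsCyclic (D.map (pr : S2 F →* P2 F)) :=
    isCyclic_of_surjective ((pr : S2 F →* P2 F).subgroupMap D) ((pr : S2 F →* P2 F).subgroupMap_surjective D)
  refine Cfsg.Agent.Lib.PSL2Mult.isCyclic_sylow (D.map (pr : S2 F →* P2 F)) ?_ P
  intro h2
  have h3 : (D.map (pr : S2 F →* P2 F)).index ∣ D.index := index_map_dvd D pr_surjective
  have h4 := h2.trans h3
  rw [hidx] at h4
  rcases hpp.dvd_mul.1 h4 with h5 | h5
  · exact hpq h5
  · have h6 : p ∣ (Nat.card F + 1) - (Nat.card F - 1) := Nat.dvd_sub h5 h1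
    have h7 : (Nat.card F + 1) - (Nat.card F - 1) = 2 := by omega
    rw [h7] at h6
    exact hp2 ((Nat.prime_dvd_prime_iff_eq hpp Nat.prime_two).1 h6)

end two

section row

theorem not_dvd_card {p : ℕ} [hp : Fact p.Prime] {F : Type u} [Field F] [Fintype F] (hpF : (p : F) ≠ 0) : ¬ p ∣ Nat.card F := by
  intro hd
  obtain ⟨r, hr⟩ := CharP.exists F
  have hrp : r.Prime := CharP.char_is_prime F r
  have : Fact r.Prime := ⟨hrp⟩
  obtain ⟨k, -, hk⟩ := FiniteField.card F r
  rw [Nat.card_eq_fintype_card, hk] at hd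
  have h1 := (Nat.prime_dvd_prime_iff_eq hp.out hrp).1 (hp.out.dvd_of_dvd_pow hd)
  apply hpF
  rw [h1]
  exact CharP.cast_eq_zero F r

theorem nc_congr {p : ℕ} [Fact p.Prime] {S : Type u} {S' : Type v} [Group S] [Finite S] [Group S'] (e : S ≃* S')
    (h : NC p S) : NC p S' := by
  have hfin : Finite S' := Finite.of_equiv S e.toEquiv
  intro P' hc
  refine h (P'.mapSurjective (f := (e.symm : S' →* S)) e.symm.surjective) ?_
  have hP : ((P'.mapSurjective (f := (e.symm : S' →* S)) e.symm.surjective : Sylow p S) : Subgroup S) =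
    (P' : Subgroup S').map (e.symm : S' →* S) := rfl
  rw [hP]
  exact isCyclic_of_surjective ((e.symm : S' →* S).subgroupMap (P' : Subgroup S')) ((e.symm : S' →* S).subgroupMap_surjective _)

/-- **the row `PSL_n(q)`** from `x0 (GL_n(q)) ≥ p + 1` for `e ≥ 2` and the families for `e = 1`, `p ≤ n` -/
theorem row_of {p : ℕ} [hp : Fact p.Prime] {M : Ideal AlgInt} {S : Type u} [Group S] [Finite S] [IsSimpleGroup S]
    {r : ℕ} [hr : Fact r.Prime] (hrp : r ≠ p) (h11 : 11 ≤ p) (hM : IsPModular p M) (h : IsPSLChar r S) (hP : NC p S)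
    (hbig : ∀ {F : Type} [Field F] [Fintype F] {n : ℕ}, (p : F) ≠ 0 → p ∣ Fintype.card F - 1 → p ≤ n →
      (S ≃* Matrix.ProjectiveSpecialLinearGroup (Fin n) F) → ∃ R, 4 * (p - 1) < R ^ 2 ∧ H443.XC.Fam p M S R)
    (hgl : ∀ {F : Type} [Field F] [Fintype F] {n : ℕ}, (p : F) ≠ 0 → 2 ≤ orderOf ((Fintype.card F : ℕ) : ZMod p) →
      2 * orderOf ((Fintype.card F : ℕ) : ZMod p) ≤ n → p + 1 ≤ x0 p M (GL (Fin n) F)) : Row0 p M S := by
  have hab := H845.KB.ab_psl p S hrp (by omega) h
  obtain ⟨F, iF, iF', iC, n, hn, -, ⟨e⟩⟩ := h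
  have hpF : (p : F) ≠ 0 := by
    intro h1
    have h2 := (CharP.cast_eq_zero_iff F r p).1 h1
    exact hrp ((Nat.prime_dvd_prime_iff_eq hr.out (Fact.out : p.Prime)).1 h2)
  have hpq := not_dvd_card hpF
  have hP' := nc_congr e hP
  have h2 := two_mul_le (by omega) hpF hP'
  have hq2 : 2 ≤ Fintype.card F := Fintype.one_lt_card
  have hord : orderOf ((Fintype.card F : ℕ) : ZMod p) ≠ 0 := by
    rw [Nat.card_eq_fintype_card] at hpq
    have hu : IsUnit ((Fintype.card F : ℕ) : ZMod p) := by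
      rw [ZMod.isUnit_iff_coprime]
      exact ((Nat.Prime.coprime_iff_not_dvd hp.out).2 hpq).symm
    obtain ⟨u, hu⟩ := hu
    rw [← hu, orderOf_units]
    exact (orderOf_pos u).ne'
  rcases Nat.lt_or_ge 1 (orderOf ((Fintype.card F : ℕ) : ZMod p)) with h3 | h3
  · refine H364.XR.row_of_ab hM hab ?_
    have h4 := hgl hpF h3 h2
    have h5 : ¬ p ∣ Fintype.card F - 1 := by
      intro h6
      rw [← ZMod.natCast_eq_zero_iff, Nat.cast_sub (by omega), Nat.cast_one, sub_eq_zero] at h6
      rw [h6, orderOf_one] at h3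
      omega
    rwa [H577.XZ.x0_gl hM (by omega) (by omega) hpF h5 ⟨e⟩] at h4
  · have h4 : orderOf ((Fintype.card F : ℕ) : ZMod p) = 1 := by omega
    rw [orderOf_eq_one_iff] at h4
    have h5 : p ∣ Fintype.card F - 1 := by
      rw [← ZMod.natCast_eq_zero_iff, Nat.cast_sub (by omega), h4, Nat.cast_one, sub_self]
    rcases Nat.lt_or_ge n p with hlt | hge
    · refine H364.XR.row_of_ab hM hab ?_
      rcases Nat.lt_or_ge n 3 with h6 | h6
      · exfalso
        obtain rfl : n = 2 := by omega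
        obtain ⟨P⟩ : Nonempty (Sylow p (Matrix.ProjectiveSpecialLinearGroup (Fin 2) F)) := inferInstance
        exact hP' P (isCyclic_sylow (by omega) hpq (by rwa [Nat.card_eq_fintype_card]) P)
      · exact H719.XZ.x0_psl_one h11 hM rfl h6 hlt h5 e
    · obtain ⟨R, h3, h4⟩ := hbig hpF h5 hge e
      exact H668.XZ.row_of_fam hM h4 h3

end row

end Cfsg.Agent.H695.XP
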