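import Mathlib

/-!
# S4791, `PSL_n(q)`: power maps on commuting semisimple operators (helper695)

`Q` a finite commutative group of order prime to `r`, `ρ` a representation of `Q` over the finite field `F` of
characteristic `r`.

* `exists_semi` : a semilinear bijection `Σ` with `Σ (c v) = c ^ (r ^ j) Σ v`, `Σ (q v) = q ^ (r ^ j) Σ v`;
* `exists_form` : a nondegenerate bilinear form with `B (q v, w) = B (v, q w)`.
-/

set_option autoImplicit false

namespace Cfsg.Agent.H695.XP

open MonoidAlgebra Module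

universe u v w

variable {F : Type u} [Field F] {Q : Type v} [CommGroup Q] [Finite Q] {V : Type w} [AddCommGroup V] [Module F V]

/-- the decomposition into fields -/
theorem exists_pi [FiniteDimensional F V] (h : (Nat.card Q : F) ≠ 0) (ρ : Representation F Q V) :
    ∃ (k : ℕ) (I : Fin k → Ideal (MonoidAlgebra F Q)), (∀ i, (I i).IsMaximal) ∧
      Nonempty (ρ.asModule ≃ₗ[MonoidAlgebra F Q] ((i : Fin k) → MonoidAlgebra F Q ⧸ I i)) := by
  have : NeZero (Nat.card Q : F) := ⟨h⟩
  have hfin : Module.Finite (MonoidAlgebra F Q) ρ.asModule := by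
    have h1 : Module.Finite F ρ.asModule := inferInstance
    exact Module.Finite.of_restrictScalars_finite F (MonoidAlgebra F Q) ρ.asModule
  obtain ⟨k, S, e, hS⟩ := IsSemisimpleModule.exists_linearEquiv_fin_dfinsupp (MonoidAlgebra F Q) ρ.asModule
  choose I hI hI' using fun i => isSimpleModule_iff_quot_maximal.1 (hS i)
  let e2 : (Π₀ i : Fin k, S i) ≃ₗ[MonoidAlgebra F Q] ((i : Fin k) → S i) := DFinsupp.linearEquivFunOnFintype
  let e3 : ((i : Fin k) → S i) ≃ₗ[MonoidAlgebra F Q] ((i : Fin k) → MonoidAlgebra F Q ⧸ I i) :=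
    LinearEquiv.piCongrRight fun i => (hI' i).some
  exact ⟨k, I, hI, ⟨(e.trans e2).trans e3⟩⟩

omit [Finite Q] in
theorem charP_quot {r : ℕ} [CharP F r] (I : Ideal (MonoidAlgebra F Q)) (hI : I.IsMaximal) :
    CharP (MonoidAlgebra F Q ⧸ I) r := by
  have : Nontrivial (MonoidAlgebra F Q ⧸ I) := Ideal.Quotient.nontrivial_iff.2 hI.ne_top
  exact charP_of_injective_algebraMap (algebraMap F (MonoidAlgebra F Q ⧸ I)).injective r

/-- the power maps of the quotient fields -/
theorem pow_bijective [Finite F] {r : ℕ} [hr : Fact r.Prime] [CharP F r] (I : Ideal (MonoidAlgebra F Q)) (hI : I.IsMaximal)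
    (j : ℕ) : Function.Bijective (fun x : MonoidAlgebra F Q ⧸ I => x ^ r ^ j) := by
  have hc := charP_quot (r := r) I hI
  have hfin : Finite (MonoidAlgebra F Q ⧸ I) := by
    have h1 : Finite (MonoidAlgebra F Q) := Module.finite_of_finite F
    exact Quotient.finite _
  have hf : IsField (MonoidAlgebra F Q ⧸ I) := Ideal.Quotient.maximal_ideal_iff_isField_quotient I |>.1 hI
  let _ : Field (MonoidAlgebra F Q ⧸ I) := hf.toField
  have hinj : Function.Injective (fun x : MonoidAlgebra F Q ⧸ I => x ^ r ^ j) := by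
    have h2 := (iterateFrobenius (MonoidAlgebra F Q ⧸ I) r j).injective
    exact h2
  exact Finite.injective_iff_bijective.1 hinj

/-- **the semilinear power map** -/
theorem exists_semi [Finite F] {r : ℕ} [hr : Fact r.Prime] [CharP F r] [FiniteDimensional F V]
    (h : (Nat.card Q : F) ≠ 0) (ρ : Representation F Q V) (j : ℕ) :
    ∃ s : V ≃+ V, (∀ (c : F) (v : V), s (c • v) = c ^ r ^ j • s v) ∧
      ∀ (q : Q) (v : V), s (ρ q v) = ρ (q ^ r ^ j) (s v) := by
  obtain ⟨k, I, hI, ⟨e⟩⟩ := exists_pi h ρ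
  let A := MonoidAlgebra F Q
  have hc : ∀ i, CharP (A ⧸ I i) r := fun i => charP_quot (I i) (hI i)
  let t : ((i : Fin k) → A ⧸ I i) →+ ((i : Fin k) → A ⧸ I i) :=
    { toFun := fun x i => x i ^ r ^ j
      map_zero' := by
        funext i
        exact zero_pow (pow_ne_zero _ hr.out.ne_zero)
      map_add' := fun x y => by
        funext i
        exact add_pow_char_pow (x i) (y i) r j }
  have ht : Function.Bijective t := by
    constructor
    · intro x y e
      funext i
      exact (pow_bijective (I i) (hI i) j).1 (congrFun e i)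
    · intro y
      choose x hx using fun i => (pow_bijective (r := r) (I i) (hI i) j).2 (y i)
      exact ⟨x, funext hx⟩
  let t' : ((i : Fin k) → A ⧸ I i) ≃+ ((i : Fin k) → A ⧸ I i) := AddEquiv.ofBijective t ht
  have hsm : ∀ (a : A) (x : (i : Fin k) → A ⧸ I i), t' (a • x) = a ^ r ^ j • t' x := by
    intro a x
    funext i
    change (a • x i) ^ r ^ j = a ^ r ^ j • (x i) ^ r ^ j
    obtain ⟨b, hb⟩ := Ideal.Quotient.mk_surjective (x i)
    rw [← hb]
    change (Ideal.Quotient.mk (I i) (a * b)) ^ r ^ j = a ^ r ^ j • (Ideal.Quotient.mk (I i) b) ^ r ^ j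
    rw [← map_pow, mul_pow, ← map_pow]
    rfl
  let s' : ρ.asModule ≃+ ρ.asModule := (e.toAddEquiv.trans t').trans e.symm.toAddEquiv
  have hs' : ∀ (a : A) (x : ρ.asModule), s' (a • x) = a ^ r ^ j • s' x := by
    intro a x
    change e.symm (t' (e (a • x))) = a ^ r ^ j • e.symm (t' (e x))
    rw [map_smul, hsm, map_smul]
  refine ⟨(ρ.asModuleEquiv.symm.toAddEquiv.trans s').trans ρ.asModuleEquiv.toAddEquiv, fun c v => ?_, fun q v => ?_⟩
  · change ρ.asModuleEquiv (s' (ρ.asModuleEquiv.symm (c • v))) = c ^ r ^ j • ρ.asModuleEquiv (s' (ρ.asModuleEquiv.symm v))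
    rw [Representation.asModuleEquiv_symm_map_smul, hs', ← map_pow, Representation.asModuleEquiv_map_smul]
    simp
  · change ρ.asModuleEquiv (s' (ρ.asModuleEquiv.symm (ρ q v))) = ρ (q ^ r ^ j) (ρ.asModuleEquiv (s' (ρ.asModuleEquiv.symm v)))
    rw [Representation.asModuleEquiv_symm_map_rho, hs', ← map_pow, Representation.asModuleEquiv_map_smul,
      MonoidAlgebra.of_apply, Representation.asAlgebraHom_single, one_smul]

/-- **the invariant form** -/
theorem exists_form [FiniteDimensional F V] (h : (Nat.card Q : F) ≠ 0) (ρ : Representation F Q V) :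
    ∃ B : V →ₗ[F] V →ₗ[F] F, (∀ v, (∀ w, B v w = 0) → v = 0) ∧ ∀ (q : Q) (v w : V), B (ρ q v) w = B v (ρ q w) := by
  obtain ⟨k, I, hI, ⟨e⟩⟩ := exists_pi h ρ
  let A := MonoidAlgebra F Q
  have hl : ∀ i, ∃ l : (A ⧸ I i) →ₗ[F] F, l 1 ≠ 0 := by
    intro i
    have : Nontrivial (A ⧸ I i) := Ideal.Quotient.nontrivial_iff.2 (hI i).ne_top
    obtain ⟨l, hl⟩ := Projective.exists_dual_ne_zero F (x := (1 : A ⧸ I i)) one_ne_zero
    exact ⟨l, hl⟩
  choose l hl using hl
  -- the form on the product
  let e' : V ≃ₗ[F] ((i : Fin k) → A ⧸ I i) := ρ.asModuleEquiv.symm.trans (e.restrictScalars F)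
  let B0 : ((i : Fin k) → A ⧸ I i) →ₗ[F] ((i : Fin k) → A ⧸ I i) →ₗ[F] F :=
    LinearMap.mk₂ F (fun x y => ∑ i, l i (x i * y i))
      (fun x x' y => by simp only [Pi.add_apply, add_mul, map_add, Finset.sum_add_distrib])
      (fun c x y => by simp only [Pi.smul_apply, smul_mul_assoc, map_smul, Finset.smul_sum])
      (fun x y y' => by simp only [Pi.add_apply, mul_add, map_add, Finset.sum_add_distrib])
      (fun c x y => by simp only [Pi.smul_apply, mul_smul_comm, map_smul, Finset.smul_sum])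
  have hB0 : ∀ x y, B0 x y = ∑ i, l i (x i * y i) := fun x y => rfl
  have he : ∀ (q : Q) (v : V), e' (ρ q v) = fun i => Ideal.Quotient.mk (I i) (MonoidAlgebra.of F Q q) * e' v i := by
    intro q v
    change e (ρ.asModuleEquiv.symm (ρ q v)) = _
    rw [Representation.asModuleEquiv_symm_map_rho, map_smul]
    funext i
    obtain ⟨b, hb⟩ := Ideal.Quotient.mk_surjective (e' v i)
    rw [← hb]
    change MonoidAlgebra.of F Q q • (e' v i) = _
    rw [← hb]
    rfl
  refine ⟨(B0.comp (e' : V →ₗ[F] _)).compl₂ (e' : V →ₗ[F] _), fun v hv => ?_, fun q v w => ?_⟩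
  · by_contra hv0
    have h1 : e' v ≠ 0 := fun h2 => hv0 (e'.map_eq_zero_iff.1 h2)
    obtain ⟨i, hi⟩ := Function.ne_iff.1 h1
    have hf : IsField (A ⧸ I i) := Ideal.Quotient.maximal_ideal_iff_isField_quotient (I i) |>.1 (hI i)
    obtain ⟨y, hy⟩ := hf.mul_inv_cancel hi
    have h2 := hv (e'.symm (Pi.single i y))
    rw [LinearMap.compl₂_apply, LinearMap.comp_apply] at h2
    change B0 (e' v) (e' (e'.symm (Pi.single i y))) = 0 at h2
    rw [e'.apply_symm_apply, hB0, Finset.sum_eq_single i, Pi.single_eq_same, hy] at h2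
    · exact hl i h2
    · intro i' _ hne
      rw [Pi.single_eq_of_ne hne, mul_zero, map_zero]
    · exact fun h3 => absurd (Finset.mem_univ i) h3
  · rw [LinearMap.compl₂_apply, LinearMap.comp_apply, LinearMap.compl₂_apply, LinearMap.comp_apply]
    change B0 (e' (ρ q v)) (e' w) = B0 (e' v) (e' (ρ q w))
    rw [hB0, hB0, he, he]
    refine Finset.sum_congr rfl fun i _ => ?_
    congr 1
    ring

end Cfsg.Agent.H695.XP
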